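import Groth.Agent.Refuted.K826.Ring
import Groth.Agent.Divis.BlowChart
import Groth.Agent.BlowUp.K483.Basics
import Groth.Agent.Flat2C.CompData
import Mathlib.RingTheory.Ideal.Height
import Mathlib.Algebra.MvPolynomial.Division
import Mathlib.RingTheory.Spectrum.Prime.Topology

/-!
# The open set over which the blow-up is an isomorphism

* `isIso_compl`, `dense_preimage_compl` : for a blow-up `b` of `Spec A` in `I`, the open
  `V = Spec A - V(I)` satisfies: `b` is an isomorphism over `V` and `b⁻¹ V` is dense;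
* `exists_V` : the case of `T` and `I = (x², xy, y², η)`: moreover `V` is dense and the points outside
  `V` have codimension `≥ 2`.
-/

set_option autoImplicit false
universe u
open CategoryTheory CategoryTheory.Limits AlgebraicGeometry TopologicalSpace BlowUp

namespace Groth.Agent.Refuted.K640.V

open Groth.Agent.Divis.BlowChart Groth.Agent.Refuted.K826

section General

variable {A : Type u} [CommRing A] {I : Ideal A} {X : Scheme.{u}} {b : X ⟶ Spec (CommRingCat.of A)}

theorem isIso_compl (hb : IsBlowUp b (idl I)) : IsIso (b ∣_ (idl I).support.compl) :=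
  Groth.Agent.Divis.BlowUpFormal.isIso_morphismRestrict_compl_support hb _ disjoint_compl_left

theorem dense_preimage_compl (hb : IsBlowUp b (idl I)) :
    Dense ((b ⁻¹ᵁ (idl I).support.compl : X.Opens) : Set X) := by
  have h := Groth.Agent.Flat2C.CompData.dense_compl_support hb.1
  rw [Scheme.IdealSheafData.support_comap] at h
  exact h

theorem le_asIdeal_of_notMem {y : Spec (CommRingCat.of A)} (hy : y ∉ (idl I).support.compl) :
    I ≤ y.asIdeal :=
  (_root_.K483.Basics.mem_support_idl I y).1 (not_not.1 hy)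

theorem ringKrullDim_stalk (y : Spec (CommRingCat.of A)) :
    ringKrullDim ((Spec (CommRingCat.of A)).presheaf.stalk y) = y.asIdeal.height := by
  let _ : Algebra A ((Spec (CommRingCat.of A)).presheaf.stalk y) := StructureSheaf.stalkAlgebra A y
  have : IsLocalization.AtPrime ((Spec (CommRingCat.of A)).presheaf.stalk y) y.asIdeal :=
    StructureSheaf.IsLocalization.to_stalk (CommRingCat.of A) y
  exact IsLocalization.AtPrime.ringKrullDim_eq_height y.asIdeal
    ((Spec (CommRingCat.of A)).presheaf.stalk y)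

end General

section T

variable {k : Type u} [Field k]

theorem inr_mem (p : Ideal (T k)) [p.IsPrime] (m : P k × P k) : TrivSqZeroExt.inr m ∈ p := by
  have h : (TrivSqZeroExt.inr m : T k) * TrivSqZeroExt.inr m ∈ p := by
    rw [TrivSqZeroExt.inr_mul_inr]; exact p.zero_mem
  exact (Ideal.IsPrime.mem_or_mem inferInstance h).elim id id

theorem mem_iff (p : Ideal (T k)) [p.IsPrime] (z : T k) : z ∈ p ↔ TrivSqZeroExt.inl z.fst ∈ p := by
  conv_lhs => rw [← TrivSqZeroExt.inl_fst_add_inr_snd_eq z]
  exact (Submodule.add_mem_iff_left _ (inr_mem p _))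

/-- The first projection. -/
noncomputable abbrev fstR : T k →+* P k := (TrivSqZeroExt.fstHom (P k) (P k) (P k × P k)).toRingHom

theorem isPrime_nil : ((⊥ : Ideal (P k)).comap fstR).IsPrime := inferInstance

theorem isPrime_X0 : (Ideal.span {(MvPolynomial.X 0 : P k)}).IsPrime :=
  (Ideal.span_singleton_prime (MvPolynomial.X_ne_zero 0)).2 (MvPolynomial.X_prime)

theorem X1_notMem : (MvPolynomial.X 1 : P k) ∉ Ideal.span {(MvPolynomial.X 0 : P k)} := by
  intro h
  obtain ⟨q, hq⟩ := Ideal.mem_span_singleton.1 h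
  have h1 := congrArg (MvPolynomial.eval (fun i : Fin 2 => if i = 1 then (1 : k) else 0)) hq
  simp at h1

theorem two_le_height (p : Ideal (T k)) [p.IsPrime] (h0 : (x₀ : T k) ∈ p) (h1 : (x₁ : T k) ∈ p) :
    2 ≤ p.height := by
  have hp1 : ((Ideal.span {(MvPolynomial.X 0 : P k)}).comap fstR).IsPrime :=
    have := isPrime_X0 (k := k); inferInstance
  have hp0 : ((⊥ : Ideal (P k)).comap fstR).IsPrime := inferInstance
  have l0 : (⊥ : Ideal (P k)).comap fstR < (Ideal.span {(MvPolynomial.X 0 : P k)}).comap fstR := by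
    refine lt_of_le_of_ne (Ideal.comap_mono bot_le) fun h => ?_
    have h2 : (x₀ : T k) ∈ (Ideal.span {(MvPolynomial.X 0 : P k)}).comap fstR :=
      Ideal.mem_span_singleton_self _
    rw [← h] at h2
    exact MvPolynomial.X_ne_zero (R := k) (0 : Fin 2) h2
  have l1 : (Ideal.span {(MvPolynomial.X 0 : P k)}).comap fstR < p := by
    refine lt_of_le_of_ne (fun z hz => ?_) fun h => ?_
    · rw [mem_iff]
      obtain ⟨q, hq⟩ := Ideal.mem_span_singleton.1 (show z.fst ∈ Ideal.span {(MvPolynomial.X 0 : P k)} from hz)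
      rw [hq, TrivSqZeroExt.inl_mul]
      exact p.mul_mem_right _ h0
    · rw [← h] at h1
      exact X1_notMem h1
  have e0 := Ideal.height_add_one_le_of_lt_of_isPrime l0
  have e1 := Ideal.height_add_one_le_of_lt_of_isPrime l1
  calc (2 : ℕ∞) = 0 + 1 + 1 := by norm_num
    _ ≤ ((⊥ : Ideal (P k)).comap fstR).height + 1 + 1 := by gcongr; exact bot_le
    _ ≤ p.height := le_trans (by gcongr) e1

instance irreducibleSpace : IrreducibleSpace (PrimeSpectrum (T k)) := by
  rw [PrimeSpectrum.irreducibleSpace_iff_isPrime_nilradical]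
  have h : nilradical (T k) = (⊥ : Ideal (P k)).comap fstR := by
    apply le_antisymm
    · intro z hz
      have h1 : IsNilpotent (fstR z) := IsNilpotent.map (mem_nilradical.1 hz) _
      exact h1.eq_zero
    · intro z hz
      rw [nilradical_eq_sInf, Ideal.mem_sInf]
      intro p hp
      have : p.IsPrime := hp
      rw [mem_iff]
      have h2 : z.fst = 0 := hz
      rw [h2, TrivSqZeroExt.inl_zero]
      exact p.zero_mem
  rw [h]
  infer_instance

theorem x0_mem_of_notMem {y : Spec (CommRingCat.of (T k))} (hy : y ∉ (idl (cI k)).support.compl) :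
    (x₀ : T k) ∈ y.asIdeal ∧ (x₁ : T k) ∈ y.asIdeal := by
  have h := le_asIdeal_of_notMem hy
  constructor
  · exact y.isPrime.mem_of_pow_mem 2 (h (Ideal.subset_span (by simp)))
  · exact y.isPrime.mem_of_pow_mem 2 (h (Ideal.subset_span (by simp)))

/-- Node V: the open over which the blow-up of `Spec T` in `I` is an isomorphism. -/
theorem exists_V {X : Scheme.{u}} {b : X ⟶ Spec (CommRingCat.of (T k))} (hb : IsBlowUp b (idl (cI k))) :
    ∃ V : (Spec (CommRingCat.of (T k))).Opens,
      (∀ y : Spec (CommRingCat.of (T k)), y ∉ V →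
        (2 : WithBot ℕ∞) ≤ ringKrullDim ((Spec (CommRingCat.of (T k))).presheaf.stalk y)) ∧
      Dense (V : Set (Spec (CommRingCat.of (T k)))) ∧
      Dense ((b ⁻¹ᵁ V : X.Opens) : Set X) ∧ IsIso (b ∣_ V) := by
  refine ⟨(idl (cI k)).support.compl, fun y hy => ?_, ?_, dense_preimage_compl hb, isIso_compl hb⟩
  · rw [ringKrullDim_stalk]
    obtain ⟨h0, h1⟩ := x0_mem_of_notMem hy
    exact WithBot.coe_le_coe.2 (two_le_height y.asIdeal h0 h1)
  · have : IrreducibleSpace (Spec (CommRingCat.of (T k))) := irreducibleSpace (k := k)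
    refine IsOpen.dense (Opens.isOpen _) ?_
    refine ⟨⟨(⊥ : Ideal (P k)).comap fstR, isPrime_nil⟩, fun h => ?_⟩
    have h1 := (_root_.K483.Basics.mem_support_idl (cI k) _).1 h
    have h0 : (x₀ : T k) ^ 2 ∈ cI k := Ideal.subset_span (by simp)
    have h2 : ((x₀ : T k) ^ 2).fst = 0 := h1 h0
    rw [TrivSqZeroExt.fst_pow, TrivSqZeroExt.fst_inl] at h2
    exact MvPolynomial.X_ne_zero (R := k) (0 : Fin 2) ((pow_eq_zero_iff two_ne_zero).1 h2)

end T

end Groth.Agent.Refuted.K640.V
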